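import Mathlib
import Cfsg.Agent.Lib.SmallGroups.Basic

/-!
Every simple group of order `168` is isomorphic to one fixed permutation group on the `8` points
`ZMod 7 ∪ {∞}`.
-/

set_option autoImplicit false

namespace CfsgLib.SmallSimple

open Equiv

/-- Two permutation groups coincide once one contains translations, a swap, and the stabiliser. -/
theorem range_eq_of_transitive {G X : Type*} [Group G] (f : G →* Perm X) (K : Subgroup (Perm X))
    (hK : K ≤ f.range) (inf : X) (htr : ∀ x, ∃ p ∈ K, p inf = x)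
    (hstab : ∀ g, f g inf = inf → f g ∈ K) : f.range = K := by
  refine le_antisymm ?_ hK
  rintro _ ⟨g, rfl⟩
  obtain ⟨p, hp, hpx⟩ := htr (f g inf)
  obtain ⟨h, hh⟩ := hK hp
  have h1 : f (h⁻¹ * g) inf = inf := by
    rw [map_mul, map_inv, hh, Perm.mul_apply]
    exact (Equiv.eq_symm_apply p).2 hpx |>.symm
  have := mul_mem hp (hstab _ h1)
  rwa [map_mul, map_inv, hh, mul_inv_cancel_left] at this

namespace O168

/-- translation -/
def sig : Perm (Fin 8) where
  toFun := ![1, 2, 3, 4, 5, 6, 0, 7]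
  invFun := ![6, 0, 1, 2, 3, 4, 5, 7]
  left_inv := by unfold Function.LeftInverse; decide
  right_inv := by unfold Function.RightInverse Function.LeftInverse; decide

/-- multiplication by two -/
def tau : Perm (Fin 8) where
  toFun := ![0, 2, 4, 6, 1, 3, 5, 7]
  invFun := ![0, 4, 1, 5, 2, 6, 3, 7]
  left_inv := by unfold Function.LeftInverse; decide
  right_inv := by unfold Function.RightInverse Function.LeftInverse; decide

/-- `x ↦ 3 / x` -/
def wz : Perm (Fin 8) where
  toFun := ![7, 3, 5, 1, 6, 2, 4, 0]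
  invFun := ![7, 3, 5, 1, 6, 2, 4, 0]
  left_inv := by unfold Function.LeftInverse; decide
  right_inv := by unfold Function.RightInverse Function.LeftInverse; decide

/-- the group -/
def K168 : Subgroup (Perm (Fin 8)) := Subgroup.closure {sig, tau, wz}

/-- candidate swapping map inverting `tau`, given the images of `1` and `3` -/
def cand (a b : Fin 8) : Fin 8 → Fin 8 :=
  ![7, a, tau (tau a), b, tau a, tau b, tau (tau b), 0]

set_option maxRecDepth 10000 in
theorem cand_spec : ∀ a b : Fin 8, a ≠ 0 → a ≠ 7 → b ≠ 0 → b ≠ 7 →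
    (∀ i : Fin 7, ∀ m : Fin 7, (sig ^ (m : ℕ)) (cand a b ((sig ^ (i : ℕ)) 0)) = 0 →
      ∃ t : Fin 7, ∃ k : Fin 3, ∀ x : Fin 8,
        cand a b ((sig ^ (m : ℕ)) (cand a b ((sig ^ (i : ℕ)) (cand a b x)))) =
          (sig ^ (t : ℕ)) ((tau ^ (k : ℕ)) x)) →
    ∃ k : Fin 3, ∀ x : Fin 8, cand a b x = wz ((tau ^ (k : ℕ)) x) := by
  decide +kernel

theorem cand_ext : ∀ w : Perm (Fin 8), w 7 = 0 → w 0 = 7 →
    (∀ x, w (tau x) = tau (tau (w x))) → ∀ x, w x = cand (w 1) (w 3) x := by
  intro w h7 h0 hc x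
  have ht : ∀ y : Fin 8, tau (tau (tau y)) = y := by decide
  have e2 : w 2 = tau (tau (w 1)) := hc 1
  have e4 : w 4 = tau (w 1) := by
    have := hc 2
    rw [e2, ht] at this
    exact this
  have e6 : w 6 = tau (tau (w 3)) := hc 3
  have e5 : w 5 = tau (w 3) := by
    have := hc 6
    rw [e6, ht] at this
    exact this
  fin_cases x <;> simp [cand, h7, h0, e2, e4, e5, e6]

set_option maxRecDepth 10000 in
theorem sig_orbit : ∀ x : Fin 8, x ≠ 7 → ∃ i : Fin 7, (sig ^ (i : ℕ)) 0 = x := by decide +kernel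

set_option maxRecDepth 10000 in
theorem sig_back : ∀ x : Fin 8, x ≠ 7 → ∃ i : Fin 7, (sig ^ (i : ℕ)) x = 0 := by decide +kernel

set_option maxRecDepth 10000 in
theorem affine_inj : ∀ t t' : Fin 7, ∀ k k' : Fin 3,
    (∀ x, (sig ^ (t : ℕ)) ((tau ^ (k : ℕ)) x) = (sig ^ (t' : ℕ)) ((tau ^ (k' : ℕ)) x)) →
      t = t' ∧ k = k' := by decide +kernel

set_option maxHeartbeats 1000000 in
/-- Every simple group of order `168` is isomorphic to `K168`. -/
theorem nonempty_iso {G : Type*} [Group G] [Finite G] [IsSimpleGroup G] (h : Nat.card G = 168) :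
    Nonempty (G ≃* ↥K168) := by
  classical
  haveI : Fact (Nat.Prime 7) := ⟨by norm_num⟩
  haveI : Fact (Nat.Prime 3) := ⟨by norm_num⟩
  have hna : ¬ IsMulCommutative G :=
    SmallGroups.not_isMulCommutative_of_not_prime (by rw [h]; norm_num)
  have hG7 : Nat.card G = 7 ^ 1 * 24 := by omega
  have hn : Nat.card (Sylow 7 G) = 8 := by
    have h1 := SmallGroups.card_sylow_mem_filter (G := G) (p := 7) hG7 (by norm_num)
    have h2 := SmallGroups.card_sylow_ne_one (G := G) (p := 7) hna (by rw [h]; norm_num)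
    have h3 : (Finset.range (24 + 1)).filter (fun d => 24 % d = 0 ∧ d % 7 = 1) = {1, 8} := by decide
    rw [h3] at h1
    simp only [Finset.mem_insert, Finset.mem_singleton] at h1
    omega
  obtain ⟨P⟩ : Nonempty (Sylow 7 G) := inferInstance
  set N := Subgroup.normalizer ((P : Subgroup G) : Set G) with hN
  have hPN : (P : Subgroup G) ≤ N := Subgroup.le_normalizer
  have hNc : Nat.card ↥N = 21 := by
    have := SmallGroups.card_sylow_mul_card_normalizer P
    rw [hn, h] at this
    rw [hN]; omega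
  have hP7 : ∀ Q : Sylow 7 G, Nat.card ↥(Q : Subgroup G) = 7 := fun Q => by
    simpa using SmallGroups.card_sylow_eq hG7 (by norm_num) Q
  obtain ⟨⟨s, hsP⟩, hs⟩ := exists_prime_orderOf_dvd_card' (G := ↥(P : Subgroup G)) 7 (by rw [hP7])
  rw [Subgroup.orderOf_mk] at hs
  have hPz : (P : Subgroup G) = Subgroup.zpowers s :=
    (Subgroup.eq_of_le_of_card_ge (Subgroup.zpowers_le.2 hsP) (by rw [Nat.card_zpowers, hs, hP7])).symm
  have hsfix : ∀ i : ℕ, s ^ i • P = P := fun i =>
    Sylow.smul_eq_iff_mem_normalizer.2 (hPN (pow_mem hsP i))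
  -- a point fixed by an element of order `3`
  obtain ⟨⟨t0, ht0N⟩, ht0⟩ := exists_prime_orderOf_dvd_card' (G := ↥N) 3 (by rw [hNc]; norm_num)
  rw [Subgroup.orderOf_mk] at ht0
  have ht0P : t0 • P = P := Sylow.smul_eq_iff_mem_normalizer.2 ht0N
  obtain ⟨Q0, hQ0, hQ0P⟩ : ∃ Q : Sylow 7 G, t0 • Q = Q ∧ Q ≠ P := by
    have hp : IsPGroup 3 ↥(Subgroup.zpowers t0) :=
      IsPGroup.of_card (n := 1) (by rw [Nat.card_zpowers, ht0, pow_one])
    have hmod := hp.card_modEq_card_fixedPoints (Sylow 7 G)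
    rw [hn] at hmod
    by_contra hne
    push Not at hne
    have hfix : MulAction.fixedPoints ↥(Subgroup.zpowers t0) (Sylow 7 G) = {P} := by
      ext Q
      rw [MulAction.mem_fixedPoints, Set.mem_singleton_iff]
      constructor
      · intro hQ
        exact hne Q (hQ ⟨t0, Subgroup.mem_zpowers t0⟩)
      · rintro rfl ⟨g, hg⟩
        exact Sylow.smul_eq_iff_mem_normalizer.2 (Subgroup.zpowers_le.2 ht0N hg)
    rw [hfix, Nat.card_eq_fintype_card, Set.card_singleton] at hmod
    exact absurd hmod (by decide)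
  -- regularity
  have hreg : ∀ i : ℕ, s ^ i • Q0 = Q0 → 7 ∣ i := by
    intro i hi
    rw [← hs, orderOf_dvd_iff_pow_eq_one]
    by_contra hne
    apply hQ0P
    have hmem : s ^ i ∈ Subgroup.normalizer ((Q0 : Subgroup G) : Set G) :=
      Sylow.smul_eq_iff_mem_normalizer.1 hi
    have hz : Subgroup.zpowers (s ^ i) = (P : Subgroup G) := by
      refine Subgroup.eq_of_le_of_card_ge (Subgroup.zpowers_le.2 (pow_mem hsP i)) ?_
      rw [Nat.card_zpowers, hP7]
      have h7 : (s ^ i) ^ 7 = 1 := by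
        rw [← pow_mul, mul_comm, pow_mul, ← hs, pow_orderOf_eq_one, one_pow]
      rcases (Nat.dvd_prime (by norm_num)).1 (orderOf_dvd_of_pow_eq_one h7) with h' | h'
      · exact absurd (orderOf_eq_one_iff.1 h') hne
      · omega
    refine (SmallGroups.sylow_eq_of_normalizes P Q0 ?_).symm
    rw [← hz]; exact Subgroup.zpowers_le.2 hmem
  let lab : Fin 8 → Sylow 7 G := fun i => if i = 7 then P else s ^ (i : ℕ) • Q0
  have hne7 : ∀ i : ℕ, s ^ i • Q0 ≠ P := by
    intro i hi
    apply hQ0P
    calc Q0 = (s ^ i)⁻¹ • (s ^ i • Q0) := by rw [inv_smul_smul]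
      _ = P := by rw [hi, inv_smul_eq_iff, hsfix]
  have hlabinj : Function.Injective lab := by
    intro i j hij
    simp only [lab] at hij
    split_ifs at hij with hi hj hj
    · rw [hi, hj]
    · exact absurd hij.symm (hne7 _)
    · exact absurd hij (hne7 _)
    · have key : ∀ p q : ℕ, p ≤ q → q < 7 → s ^ p • Q0 = s ^ q • Q0 → p = q := by
        intro p q hpq hq heq
        have : s ^ (q - p) • Q0 = Q0 := by
          have e : s ^ q = s ^ p * s ^ (q - p) := by rw [← pow_add, Nat.add_sub_cancel' hpq]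
          rw [e, mul_smul] at heq
          exact ((MulAction.injective (s ^ p)) heq).symm
        have := hreg _ this
        omega
      have hi' : (i : ℕ) < 7 := by have := Fin.val_ne_iff.2 hi; omega
      have hj' : (j : ℕ) < 7 := by have := Fin.val_ne_iff.2 hj; omega
      rcases le_total (i : ℕ) (j : ℕ) with hle | hle
      · exact Fin.ext (key _ _ hle hj' hij)
      · exact (Fin.ext (key _ _ hle hi' hij.symm)).symm
  haveI := Fintype.ofFinite (Sylow 7 G)
  let e : Fin 8 ≃ Sylow 7 G := Equiv.ofBijective lab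
    ((Fintype.bijective_iff_injective_and_card lab).2
      ⟨hlabinj, by rw [Fintype.card_fin, ← Nat.card_eq_fintype_card, hn]⟩)
  have e7 : e 7 = P := by simp [e, lab]
  have e0 : e 0 = Q0 := by simp [e, lab]
  let f : G →* Perm (Fin 8) := e.symm.permCongrHom.toMonoidHom.comp (MulAction.toPermHom G (Sylow 7 G))
  have hf : ∀ g x, e (f g x) = g • e x := by
    intro g x; simp [f]
  have hfinj : Function.Injective f := by
    rw [← MonoidHom.ker_eq_bot_iff]
    refine SmallGroups.eq_bot_of_normal_ne_top f.normal_ker fun htop => ?_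
    apply hne7 0
    rw [pow_zero, one_smul]
    have hQP : ∀ g : G, g • P = P := by
      intro g
      have := hf g 7
      rw [MonoidHom.mem_ker.1 (htop ▸ Subgroup.mem_top g), Perm.one_apply, e7] at this
      exact this.symm
    obtain ⟨g, hg⟩ := MulAction.exists_smul_eq G P Q0
    rw [hQP] at hg; exact hg.symm
  have hs7' : s ^ 7 = 1 := by rw [← pow_orderOf_eq_one s, hs]
  have hsmod : ∀ n : ℕ, s ^ (n % 7) = s ^ n := fun n => by
    conv_rhs => rw [← pow_mod_orderOf, hs]
  have hfs : f s = sig := by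
    refine Equiv.ext fun x => e.injective ?_
    rw [hf]
    fin_cases x <;> simp [e, lab, sig, smul_smul, ← pow_succ'] <;>
      first
        | (simpa using hsfix 1)
        | (rw [hs7', one_smul])
        | (rw [pow_two])
        | rfl
  -- normalisation of the element of order three
  have hconj : ∀ t ∈ N, ∃ r : ℕ, r < 7 ∧ t * s * t⁻¹ = s ^ r := by
    intro t ht
    have hm : t * s * t⁻¹ ∈ Subgroup.zpowers s := by
      rw [← hPz]; exact (Subgroup.mem_normalizer_iff.1 ht s).1 hsP
    have hfo : IsOfFinOrder s := isOfFinOrder_of_finite s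
    rw [← hfo.mem_powers_iff_mem_zpowers, hfo.mem_powers_iff_mem_range_orderOf, hs] at hm
    obtain ⟨r, hr, hr'⟩ := Finset.mem_image.1 hm
    exact ⟨r, Finset.mem_range.1 hr, hr'.symm⟩
  obtain ⟨r, hr, hrel⟩ := hconj t0 ht0N
  have hr1 : r ≠ 1 := by
    intro h1
    rw [h1, pow_one] at hrel
    apply SmallGroups.not_normalizer_le_centralizer hna (by rw [h]; norm_num) P
    have hsub : Subgroup.zpowers s ⊔ Subgroup.zpowers t0 ≤ Subgroup.centralizer ({s} : Set G) :=
      sup_le (Subgroup.zpowers_le.2 (Subgroup.mem_centralizer_singleton_iff.2 rfl))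
        (Subgroup.zpowers_le.2 (Subgroup.mem_centralizer_singleton_iff.2 (mul_inv_eq_iff_eq_mul.1 hrel)))
    have htopN : Subgroup.zpowers s ⊔ Subgroup.zpowers t0 = N := by
      refine Subgroup.eq_of_le_of_card_ge
        (sup_le (Subgroup.zpowers_le.2 (hPN hsP)) (Subgroup.zpowers_le.2 ht0N)) ?_
      rw [hNc]
      refine Nat.le_of_dvd Nat.card_pos (Nat.Coprime.mul_dvd_of_dvd_of_dvd (m := 7) (n := 3) (by norm_num) ?_ ?_)
      · rw [← hs, ← Nat.card_zpowers]; exact Subgroup.card_dvd_of_le le_sup_left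
      · rw [← ht0, ← Nat.card_zpowers]; exact Subgroup.card_dvd_of_le le_sup_right
    intro g hg
    have hgc := hsub (htopN ▸ hg : g ∈ Subgroup.zpowers s ⊔ Subgroup.zpowers t0)
    rw [Subgroup.mem_centralizer_iff]
    intro p hp
    obtain ⟨k, rfl⟩ := Subgroup.mem_zpowers_iff.1 (hPz ▸ hp : p ∈ Subgroup.zpowers s)
    exact ((show Commute g s from Subgroup.mem_centralizer_singleton_iff.1 hgc).zpow_right k).eq.symm
  have hiter : ∀ m : ℕ, t0 ^ m * s * (t0 ^ m)⁻¹ = s ^ (r ^ m) := by
    intro m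
    induction m with
    | zero => simp
    | succ m ih =>
      rw [pow_succ' t0, show t0 * t0 ^ m * s * (t0 * t0 ^ m)⁻¹ = t0 * (t0 ^ m * s * (t0 ^ m)⁻¹) * t0⁻¹ by group,
        ih, ← conj_pow, hrel, ← pow_mul]
      congr 1
      rw [pow_succ']
  have hr3 : r ^ 3 % 7 = 1 := by
    have := hiter 3
    rw [← ht0, pow_orderOf_eq_one, one_mul, inv_one, mul_one] at this
    nth_rewrite 1 [← pow_one s] at this
    have h2 := pow_eq_pow_iff_modEq.1 this
    rw [hs, ht0] at h2
    exact h2.symm.trans rfl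
  obtain ⟨t, htN, ht3, htQ, htrel⟩ : ∃ t ∈ N, orderOf t = 3 ∧ t • Q0 = Q0 ∧ t * s * t⁻¹ = s ^ 2 := by
    have h24 : r = 2 ∨ r = 4 := by interval_cases r <;> simp_all
    rcases h24 with rfl | rfl
    · exact ⟨t0, ht0N, ht0, hQ0, hrel⟩
    · refine ⟨t0 ^ 2, pow_mem ht0N 2, ?_, ?_, ?_⟩
      · rw [Nat.Coprime.orderOf_pow (by rw [ht0]; norm_num), ht0]
      · rw [pow_two, mul_smul, hQ0, hQ0]
      · rw [hiter 2, pow_eq_pow_iff_modEq, hs]; rfl
  have hrel' : ∀ i : ℕ, t * s ^ i = s ^ (2 * i) * t := by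
    intro i
    rw [pow_mul, ← htrel, conj_pow]; group
  have hft : f t = tau := by
    refine Equiv.ext fun x => e.injective ?_
    rw [hf]
    have htP : t • P = P := Sylow.smul_eq_iff_mem_normalizer.2 htN
    have key : ∀ i : ℕ, t • (s ^ i • Q0) = s ^ (2 * i % 7) • Q0 := by
      intro i
      rw [smul_smul, hrel', mul_smul, htQ, hsmod]
    fin_cases x <;> simp [e, lab, tau, htP, key] <;>
      first | exact htQ | (simpa using key 1) | rfl
  -- the stabiliser of `∞`
  have hstab : ∀ g, f g 7 = 7 → ∃ a : Fin 7, ∃ k : Fin 3,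
      ∀ x, f g x = (sig ^ (a : ℕ)) ((tau ^ (k : ℕ)) x) := by
    intro g hg
    have hgN : g ∈ N := by
      rw [hN]
      refine Sylow.smul_eq_iff_mem_normalizer.1 ?_
      have := hf g 7
      rw [hg, e7] at this
      exact this.symm
    let F : Fin 7 × Fin 3 → ↥N := fun p =>
      ⟨s ^ (p.1 : ℕ) * t ^ (p.2 : ℕ), mul_mem (pow_mem (hPN hsP) _) (pow_mem htN _)⟩
    have hF : Function.Injective F := by
      rintro ⟨a, k⟩ ⟨a', k'⟩ hak
      have h1 : f (s ^ (a : ℕ) * t ^ (k : ℕ)) = f (s ^ (a' : ℕ) * t ^ (k' : ℕ)) :=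
        congrArg f (congrArg Subtype.val hak)
      simp only [map_mul, map_pow, hfs, hft] at h1
      obtain ⟨rfl, rfl⟩ := affine_inj a a' k k' fun x => by
        have := congrArg (fun p : Perm (Fin 8) => p x) h1
        simpa [Perm.mul_apply] using this
      rfl
    haveI := Fintype.ofFinite ↥N
    have hFb : Function.Bijective F := (Fintype.bijective_iff_injective_and_card F).2 ⟨hF, by
      rw [Fintype.card_prod, Fintype.card_fin, Fintype.card_fin, ← Nat.card_eq_fintype_card, hNc]⟩
    obtain ⟨⟨a, k⟩, hak⟩ := hFb.2 ⟨g, hgN⟩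
    refine ⟨a, k, fun x => ?_⟩
    have : g = s ^ (a : ℕ) * t ^ (k : ℕ) := (congrArg Subtype.val hak).symm
    rw [this, map_mul, map_pow, map_pow, hfs, hft, Perm.mul_apply]
  -- an element interchanging `0` and `∞`
  obtain ⟨g0, hg7, hg0⟩ : ∃ g0, f g0 7 = 0 ∧ f g0 0 = 7 := by
    obtain ⟨a, ha⟩ := MulAction.exists_smul_eq G P Q0
    have ha7 : f a 7 = 0 := e.injective (by rw [hf, e7, e0, ha])
    set q := (f a)⁻¹ 7 with hq
    have hq7 : q ≠ 7 := by
      intro h7
      have : f a q = 7 := by rw [hq]; exact (f a).apply_symm_apply 7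
      rw [h7, ha7] at this
      exact absurd this (by decide)
    obtain ⟨i, hi⟩ := sig_orbit q hq7
    have hs7 : ∀ i : ℕ, (sig ^ i) 7 = 7 := by
      intro i
      induction i with
      | zero => rfl
      | succ i ih => rw [pow_succ', Perm.mul_apply, ih]; rfl
    refine ⟨a * s ^ (i : ℕ), ?_, ?_⟩
    · rw [map_mul, map_pow, hfs, Perm.mul_apply, hs7, ha7]
    · rw [map_mul, map_pow, hfs, Perm.mul_apply, hi, hq]; exact (f a).apply_symm_apply 7
  set w := f g0 with hw
  have hwi7 : w⁻¹ 7 = 0 := by rw [← hg0]; exact w.symm_apply_apply 0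
  have hwi0 : w⁻¹ 0 = 7 := by rw [← hg7]; exact w.symm_apply_apply 7
  have hsig0 : ∀ a : Fin 7, (sig ^ (a : ℕ)) 0 = 0 → a = 0 := by decide +kernel
  have htau0 : ∀ k : Fin 3, (tau ^ (k : ℕ)) 0 = 0 := by decide +kernel
  have htau7 : tau 7 = 7 := rfl
  have htau00 : tau 0 = 0 := rfl
  have hfix2 : ∀ g, f g 7 = 7 → f g 0 = 0 → ∃ k : Fin 3, g = t ^ (k : ℕ) := by
    intro g h7 h0
    obtain ⟨a, k, hak⟩ := hstab g h7
    have := hak 0
    rw [h0, htau0] at this
    obtain rfl := hsig0 a this.symm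
    refine ⟨k, hfinj (Equiv.ext fun x => ?_)⟩
    rw [hak x, map_pow, hft]; rfl
  -- it inverts `t`
  have hinv : g0 * t * g0⁻¹ = t ^ 2 := by
    obtain ⟨k, hk⟩ := hfix2 (g0 * t * g0⁻¹)
      (by rw [map_mul, map_mul, map_inv, ← hw, hft, Perm.mul_apply, Perm.mul_apply, hwi7, htau00, hg0])
      (by rw [map_mul, map_mul, map_inv, ← hw, hft, Perm.mul_apply, Perm.mul_apply, hwi0, htau7, hg7])
    fin_cases k
    · exfalso
      simp only [pow_zero] at hk
      rw [conj_eq_one_iff] at hk
      rw [hk, orderOf_one] at ht3; norm_num at ht3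
    · exfalso
      simp only [pow_one] at hk
      -- then the normalizer of a Sylow 3-subgroup centralizes it
      have hT3 : Nat.card ↥(Subgroup.zpowers t) = 3 ^ 1 := by rw [Nat.card_zpowers, ht3, pow_one]
      let T : Sylow 3 G := (IsPGroup.of_card hT3).toSylow (by
        intro hd
        have h1 := (Subgroup.zpowers t).card_mul_index
        rw [hT3, h] at h1
        omega)
      apply SmallGroups.not_normalizer_le_centralizer hna (by rw [h]; norm_num) T
      have hfixt : ∀ x : Fin 8, tau x = x → x = 0 ∨ x = 7 := by decide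
      intro g hg
      have hg' : g⁻¹ * t * g ∈ Subgroup.zpowers t :=
        (Subgroup.mem_normalizer_iff.1 hg (g⁻¹ * t * g)).2
          (by rw [show g * (g⁻¹ * t * g) * g⁻¹ = t by group]; exact Subgroup.mem_zpowers t)
      have hgfix : ∀ x : Fin 8, tau x = x → tau (f g x) = f g x := by
        intro x hx
        have hall : ∀ y ∈ Subgroup.zpowers t, f y x = x := by
          intro y hy
          obtain ⟨i, rfl⟩ := Subgroup.mem_zpowers_iff.1 hy
          rw [map_zpow, hft]
          exact Perm.zpow_apply_eq_self_of_apply_eq_self hx i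
        have h1 := hall _ hg'
        rw [map_mul, map_mul, map_inv, Perm.mul_apply, Perm.mul_apply, hft, Perm.inv_eq_iff_eq] at h1
        exact h1
      have hcomm : ∀ m, f m 7 = 7 → f m 0 = 0 → Commute m t := by
        intro m h7 h0
        obtain ⟨j, rfl⟩ := hfix2 m h7 h0
        exact (Commute.refl t).pow_left _
      have hgc : Commute g t := by
        rcases hfixt _ (hgfix 7 htau7) with h7 | h7
        · have h0 : f g 0 = 7 := (hfixt _ (hgfix 0 htau00)).resolve_left
            fun h0 => absurd ((f g).injective (h0.trans h7.symm)) (by decide)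
          have hc := hcomm (g0⁻¹ * g)
            (by rw [map_mul, map_inv, ← hw, Perm.mul_apply, h7, hwi0])
            (by rw [map_mul, map_inv, ← hw, Perm.mul_apply, h0, hwi7])
          have hg0c : Commute g0 t := mul_inv_eq_iff_eq_mul.1 hk
          have := hg0c.mul_left hc
          rwa [mul_inv_cancel_left] at this
        · have h0 : f g 0 = 0 := (hfixt _ (hgfix 0 htau00)).resolve_right
            fun h0 => absurd ((f g).injective (h0.trans h7.symm)) (by decide)
          exact hcomm g h7 h0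
      rw [Subgroup.mem_centralizer_iff]
      intro y hy
      obtain ⟨i, rfl⟩ := Subgroup.mem_zpowers_iff.1 (show y ∈ Subgroup.zpowers t from hy)
      exact (hgc.zpow_right i).eq.symm
    · exact hk
  have hwtau : ∀ x, w (tau x) = tau (tau (w x)) := by
    intro x
    have h1 : f (g0 * t) = f (t * t * g0) := by
      congr 1
      rw [← pow_two, ← hinv, inv_mul_cancel_right]
    rw [map_mul, map_mul, map_mul, hft, ← hw] at h1
    exact congrArg (fun p : Perm (Fin 8) => p x) h1
  have hcand := cand_ext w hg7 hg0 hwtau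
  obtain ⟨k, hk⟩ := cand_spec (w 1) (w 3)
    (fun h => absurd (w.injective (h.trans hg7.symm)) (by decide))
    (fun h => absurd (w.injective (h.trans hg0.symm)) (by decide))
    (fun h => absurd (w.injective (h.trans hg7.symm)) (by decide))
    (fun h => absurd (w.injective (h.trans hg0.symm)) (by decide))
    (fun i m him => by
      simp only [← hcand] at him ⊢
      have : f (g0 * s ^ (m : ℕ) * g0 * s ^ (i : ℕ) * g0) 7 = 7 := by
        simp only [map_mul, map_pow, hfs, Perm.mul_apply, ← hw]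
        rw [hg7, him, hg0]
      obtain ⟨a, j, haj⟩ := hstab _ this
      refine ⟨a, j, fun x => ?_⟩
      rw [← haj x]
      simp only [map_mul, map_pow, hfs, Perm.mul_apply, ← hw])
  have hweq : w = wz * tau ^ (k : ℕ) := Equiv.ext fun x => by
    rw [hcand x, hk x]; rfl
  have hKle : K168 ≤ f.range := by
    rw [K168, Subgroup.closure_le]
    rintro p (rfl | rfl | rfl)
    · exact ⟨s, hfs⟩
    · exact ⟨t, hft⟩
    · refine ⟨g0 * (t ^ (k : ℕ))⁻¹, ?_⟩
      rw [map_mul, map_inv, map_pow, hft, ← hw, hweq, mul_inv_cancel_right]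
  have hsigK : sig ∈ K168 := Subgroup.subset_closure (by simp)
  have htauK : tau ∈ K168 := Subgroup.subset_closure (by simp)
  have hwzK : wz ∈ K168 := Subgroup.subset_closure (by simp)
  have hrange : f.range = K168 := by
    refine range_eq_of_transitive f K168 hKle 7 (fun x => ?_) (fun g hg => ?_)
    · by_cases hx : x = 7
      · exact ⟨1, one_mem _, hx.symm⟩
      · obtain ⟨i, hi⟩ := sig_orbit x hx
        refine ⟨sig ^ (i : ℕ) * wz, mul_mem (pow_mem hsigK _) hwzK, ?_⟩
        rw [Perm.mul_apply]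
        exact hi
    · obtain ⟨a, j, haj⟩ := hstab g hg
      have : f g = sig ^ (a : ℕ) * tau ^ (j : ℕ) := Equiv.ext fun x => haj x
      rw [this]
      exact mul_mem (pow_mem hsigK _) (pow_mem htauK _)
  exact ⟨(MonoidHom.ofInjective hfinj).trans (MulEquiv.subgroupCongr hrange)⟩

end O168

end CfsgLib.SmallSimple
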