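import Mathlib
import Cfsg.Agent.Lib.SmallGroups.Basic
import Cfsg.Agent.Lib.Transfer.Frobenius
import Cfsg.Agent.Lib.LocalEven.Coprime
import Cfsg.Agent.Lib.SmallSimple.Order168

/-!
Every simple group of order `360` is isomorphic to one fixed permutation group on the `10` points
`ℤ[i]/3 ∪ {∞}`; the point `a + 3 b` stands for `a + b i`, and `9` for `∞`.
-/

set_option autoImplicit false

namespace CfsgLib.SmallSimple

open Equiv

namespace O360

/-- translation by `1` -/
def sv : Perm (Fin 10) where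
  toFun := ![1, 2, 0, 4, 5, 3, 7, 8, 6, 9]
  invFun := ![2, 0, 1, 5, 3, 4, 8, 6, 7, 9]
  left_inv := by unfold Function.LeftInverse; decide
  right_inv := by unfold Function.RightInverse Function.LeftInverse; decide

/-- translation by `i` -/
def su : Perm (Fin 10) where
  toFun := ![3, 4, 5, 6, 7, 8, 0, 1, 2, 9]
  invFun := ![6, 7, 8, 0, 1, 2, 3, 4, 5, 9]
  left_inv := by unfold Function.LeftInverse; decide
  right_inv := by unfold Function.RightInverse Function.LeftInverse; decide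

/-- multiplication by `i` -/
def rot : Perm (Fin 10) where
  toFun := ![0, 3, 6, 2, 5, 8, 1, 4, 7, 9]
  invFun := ![0, 6, 3, 1, 7, 4, 2, 8, 5, 9]
  left_inv := by unfold Function.LeftInverse; decide
  right_inv := by unfold Function.RightInverse Function.LeftInverse; decide

/-- `x ↦ 1 / x` -/
def wz : Perm (Fin 10) where
  toFun := ![9, 1, 2, 6, 5, 4, 3, 8, 7, 0]
  invFun := ![9, 1, 2, 6, 5, 4, 3, 8, 7, 0]
  left_inv := by unfold Function.LeftInverse; decide
  right_inv := by unfold Function.RightInverse Function.LeftInverse; decide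

/-- the group -/
def K360 : Subgroup (Perm (Fin 10)) := Subgroup.closure {sv, su, rot, wz}

/-- the affine maps -/
def aff (a b : Fin 3) (k : Fin 4) : Perm (Fin 10) :=
  sv ^ (a : ℕ) * su ^ (b : ℕ) * rot ^ (k : ℕ)

/-- candidate swapping map conjugating `rot` to `h`, given the images of `1` and `4` -/
def candH (h : Perm (Fin 10)) (a b : Fin 10) : Fin 10 → Fin 10 :=
  ![9, a, h (h a), h a, b, h b, h (h (h a)), h (h (h b)), h (h b), 0]

/-- the test -/
def Good (w : Fin 10 → Fin 10) : Prop :=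
  ∀ i j m n : Fin 3,
    (sv ^ (m : ℕ) * su ^ (n : ℕ) : Perm (Fin 10)) (w ((sv ^ (i : ℕ) * su ^ (j : ℕ) : Perm (Fin 10)) 0)) = 0 →
      ∃ a b : Fin 3, ∃ k : Fin 4, ∀ x : Fin 10,
        w ((sv ^ (m : ℕ) * su ^ (n : ℕ) : Perm (Fin 10))
          (w ((sv ^ (i : ℕ) * su ^ (j : ℕ) : Perm (Fin 10)) (w x)))) = aff a b k x

instance (w : Fin 10 → Fin 10) : Decidable (Good w) := by unfold Good; infer_instance

set_option maxRecDepth 10000 in
theorem cand_one : ∀ a b : Fin 10, a ≠ 0 → a ≠ 9 → b ≠ 0 → b ≠ 9 → ¬ Good (candH rot a b) := by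
  decide +kernel

set_option maxRecDepth 10000 in
theorem cand_inv : ∀ a b : Fin 10, a ≠ 0 → a ≠ 9 → b ≠ 0 → b ≠ 9 → Good (candH rot⁻¹ a b) →
    ∃ k : Fin 4, ∀ x : Fin 10, candH rot⁻¹ a b x = wz ((rot ^ (k : ℕ)) x) := by
  decide +kernel

set_option maxRecDepth 10000 in
theorem translate_orbit : ∀ x : Fin 10, x ≠ 9 →
    ∃ a b : Fin 3, (sv ^ (a : ℕ) * su ^ (b : ℕ) : Perm (Fin 10)) 0 = x := by decide +kernel

set_option maxRecDepth 10000 in
theorem translate_top : ∀ a b : Fin 3, (sv ^ (a : ℕ) * su ^ (b : ℕ) : Perm (Fin 10)) 9 = 9 := by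
  decide +kernel

set_option maxRecDepth 10000 in
theorem aff_zero : ∀ a b : Fin 3, ∀ k : Fin 4, aff a b k 0 = 0 → a = 0 ∧ b = 0 := by decide +kernel

set_option maxRecDepth 10000 in
theorem aff_inj : ∀ a b a' b' : Fin 3, ∀ k k' : Fin 4,
    aff a b k 0 = aff a' b' k' 0 → aff a b k 1 = aff a' b' k' 1 → a = a' ∧ b = b' ∧ k = k' := by
  decide +kernel

theorem cand_ext (h : Perm (Fin 10)) (w : Perm (Fin 10)) (h9 : w 9 = 0) (h0 : w 0 = 9)
    (hc : ∀ x, w (rot x) = h (w x)) : ∀ x, w x = candH h (w 1) (w 4) x := by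
  intro x
  have e3 : w 3 = h (w 1) := hc 1
  have e2 : w 2 = h (h (w 1)) := by rw [← e3]; exact hc 3
  have e6 : w 6 = h (h (h (w 1))) := by rw [← e2]; exact hc 2
  have e5 : w 5 = h (w 4) := hc 4
  have e8 : w 8 = h (h (w 4)) := by rw [← e5]; exact hc 5
  have e7 : w 7 = h (h (h (w 4))) := by rw [← e8]; exact hc 8
  fin_cases x <;> simp [candH, h9, h0, e2, e3, e5, e6, e7, e8]

theorem sq_add_one_ne : ∀ z : ZMod 3, z * z + 1 ≠ 0 := by decide

variable {G : Type*} [Group G] [Finite G] [IsSimpleGroup G]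

theorem card_sylow_three (h : Nat.card G = 360) :
    ¬ IsMulCommutative G ∧ Nat.card (Sylow 3 G) = 10 ∧
      (∀ Q : Sylow 3 G, Nat.card ↥(Q : Subgroup G) = 9) ∧
      (∀ H : Subgroup G, H ≠ ⊤ → 6 ≤ H.index) := by
  haveI : Fact (Nat.Prime 3) := ⟨by norm_num⟩
  have hna : ¬ IsMulCommutative G :=
    SmallGroups.not_isMulCommutative_of_not_prime (by rw [h]; norm_num)
  have hG3 : Nat.card G = 3 ^ 2 * 40 := by omega
  have hP9 : ∀ Q : Sylow 3 G, Nat.card ↥(Q : Subgroup G) = 9 := fun Q => by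
    simpa using SmallGroups.card_sylow_eq hG3 (by norm_num) Q
  have hidx : ∀ H : Subgroup G, H ≠ ⊤ → 6 ≤ H.index := by
    intro H hH
    by_contra hlt
    have hd := SmallGroups.two_mul_card_dvd_factorial hna H hH
    rw [h] at hd
    have hle : H.index.factorial ≤ Nat.factorial 5 := Nat.factorial_le (by omega)
    have := Nat.le_of_dvd (Nat.factorial_pos _) hd
    norm_num [Nat.factorial] at hle
    omega
  refine ⟨hna, ?_, hP9, hidx⟩
  have h1 := SmallGroups.card_sylow_mem_filter (G := G) (p := 3) hG3 (by norm_num)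
  have h2 := SmallGroups.card_sylow_ne_one (G := G) (p := 3) hna (by rw [h]; norm_num)
  have h3 := SmallGroups.two_mul_card_dvd_factorial_card_sylow (G := G) (p := 3) hna (by rw [h]; norm_num)
  have h4 : (Finset.range (40 + 1)).filter (fun d => 40 % d = 0 ∧ d % 3 = 1) = {1, 4, 10, 40} := by
    decide
  rw [h4] at h1
  simp only [Finset.mem_insert, Finset.mem_singleton] at h1
  rcases h1 with h1 | h1 | h1 | h1
  · exact absurd h1 h2
  · rw [h1, h] at h3; norm_num [Nat.factorial] at h3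
  · exact h1
  · exfalso
    obtain ⟨P⟩ : Nonempty (Sylow 3 G) := inferInstance
    apply SmallGroups.not_normalizer_le_centralizer hna (by rw [h]; norm_num) P
    have hN := SmallGroups.card_sylow_mul_card_normalizer P
    rw [h1, h] at hN
    have hNP : Subgroup.normalizer ((P : Subgroup G) : Set G) = (P : Subgroup G) :=
      (Subgroup.eq_of_le_of_card_ge Subgroup.le_normalizer (by rw [hP9]; omega)).symm
    have hcomm := IsPGroup.commutative_of_card_eq_prime_sq (p := 3) (G := ↥(P : Subgroup G))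
      (by rw [hP9]; norm_num)
    intro g hg
    rw [Subgroup.mem_centralizer_iff]
    intro y hy
    exact congrArg Subtype.val (hcomm ⟨y, hy⟩ ⟨g, hNP ▸ hg⟩)

/-- A nontrivial element of a Sylow `3`-subgroup normalizes no other one. -/
theorem regular_three (h : Nat.card G = 360) (P Q : Sylow 3 G) {p : G}
    (hp : p ∈ (P : Subgroup G)) (hp1 : p ≠ 1) (hQ : p • Q = Q) : Q = P := by
  haveI : Fact (Nat.Prime 3) := ⟨by norm_num⟩
  obtain ⟨hna, -, hP9, hidx⟩ := card_sylow_three h
  by_contra hne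
  have hpQ : p ∈ (Q : Subgroup G) := by
    have hpz : IsPGroup 3 ↥(Subgroup.zpowers p) := P.2.to_le (Subgroup.zpowers_le.2 hp)
    have hle : Subgroup.zpowers p ≤ Subgroup.normalizer ((Q : Subgroup G) : Set G) :=
      Subgroup.zpowers_le.2 (Sylow.smul_eq_iff_mem_normalizer.1 hQ)
    exact (Q.3 (hpz.to_sup_of_normal_right' Q.2 hle) le_sup_right).le
      ((le_sup_left : Subgroup.zpowers p ≤ _) (Subgroup.mem_zpowers p))
  have hcomm : ∀ R : Sylow 3 G, ∀ x ∈ (R : Subgroup G), ∀ y ∈ (R : Subgroup G), x * y = y * x :=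
    fun R x hx y hy => congrArg Subtype.val
      (IsPGroup.commutative_of_card_eq_prime_sq (p := 3) (G := ↥(R : Subgroup G))
        (by rw [hP9]; norm_num) ⟨x, hx⟩ ⟨y, hy⟩)
  set C := Subgroup.centralizer ({p} : Set G) with hC
  have hPC : (P : Subgroup G) ≤ C := fun x hx =>
    Subgroup.mem_centralizer_singleton_iff.2 (hcomm P x hx p hp)
  have hQC : (Q : Subgroup G) ≤ C := fun x hx =>
    Subgroup.mem_centralizer_singleton_iff.2 (hcomm Q x hx p hpQ)
  have hCtop : C ≠ ⊤ := by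
    intro ht
    have h1 : p ∈ Subgroup.center G := Subgroup.mem_center_iff.2 fun g =>
      Subgroup.mem_centralizer_singleton_iff.1 (ht ▸ Subgroup.mem_top g : g ∈ C)
    rw [SmallGroups.eq_bot_or_comm_of_centre hna, Subgroup.mem_bot] at h1
    exact hp1 h1
  let P' : Sylow 3 ↥C := P.subtype hPC
  let Q' : Sylow 3 ↥C := Q.subtype hQC
  have hP'Q' : P' ≠ Q' := fun e => hne (Sylow.subtype_injective e).symm
  have h9C : 9 ∣ Nat.card ↥C := hP9 P ▸ Subgroup.card_dvd_of_le hPC
  obtain ⟨c, hc⟩ := h9C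
  have hcidx := C.card_mul_index
  rw [hc, h, mul_assoc] at hcidx
  have hc6 : c ≤ 6 := by
    have := hidx C hCtop
    nlinarith
  have hdvd40 : c ∣ 40 := ⟨C.index, by omega⟩
  have hP'9 : Nat.card ↥(P' : Subgroup ↥C) = 9 := by
    rw [Sylow.coe_subtype, Nat.card_congr (Subgroup.subgroupOfEquivOfLe hPC).toEquiv, hP9]
  set n := Nat.card (Sylow 3 ↥C) with hn
  have hnmod : n % 3 = 1 := SmallGroups.mod_eq_one_card_sylow
  have hn1 : n ≠ 1 := fun e => by
    haveI := (Nat.card_eq_one_iff_unique.1 (hn ▸ e)).1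
    exact hP'Q' (Subsingleton.elim _ _)
  have hndvd : n ∣ c := by
    have h1 := Sylow.card_dvd_index P'
    have h2 := (P' : Subgroup ↥C).card_mul_index
    rw [hP'9, hc] at h2
    have h3 : (P' : Subgroup ↥C).index = c := Nat.eq_of_mul_eq_mul_left (by norm_num) h2
    rwa [h3] at h1
  have hc0 : 0 < c := by
    rcases Nat.eq_zero_or_pos c with h0 | h0
    · rw [h0] at hcidx; simp at hcidx
    · exact h0
  have hnle : n ≤ c := Nat.le_of_dvd hc0 hndvd
  have hn0 : n ≠ 0 := fun h0 => by omega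
  have hn4 : n = 4 := by omega
  have hc4 : c = 4 := by
    rw [hn4] at hndvd
    obtain ⟨d, hd⟩ := hndvd
    omega
  have hNC : Subgroup.normalizer ((P' : Subgroup ↥C) : Set ↥C) ≤
      Subgroup.centralizer ((P' : Subgroup ↥C) : Set ↥C) := by
    have h1 := SmallGroups.card_sylow_mul_card_normalizer P'
    rw [← hn, hn4, hc, hc4] at h1
    have hNP : Subgroup.normalizer ((P' : Subgroup ↥C) : Set ↥C) = (P' : Subgroup ↥C) :=
      (Subgroup.eq_of_le_of_card_ge Subgroup.le_normalizer (by rw [hP'9]; omega)).symm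
    rw [hNP]
    intro x hx
    rw [Subgroup.mem_centralizer_iff]
    intro y hy
    exact Subtype.ext (hcomm P y (Subgroup.mem_subgroupOf.1 hy) x (Subgroup.mem_subgroupOf.1 hx))
  obtain ⟨P1, V0, hV0n, hV0⟩ := Transfer.hasNormalPComplement_of_normalizer_le_centralizer P' hNC
  have hV0c : Nat.card ↥V0 = 4 := by
    have h1 := hV0.card_mul
    rw [Nat.card_congr (Sylow.equiv P1 P').toEquiv, hP'9, hc, hc4] at h1
    omega
  set V := V0.map C.subtype with hV
  have hVc : Nat.card ↥V = 4 := by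
    rw [hV, Subgroup.card_map_of_injective C.subtype_injective, hV0c]
  have hCN : C ≤ Subgroup.normalizer (V : Set G) := by
    intro x hx
    rw [Subgroup.mem_normalizer_iff]
    intro y
    constructor
    · rintro ⟨v, hv, rfl⟩
      exact ⟨_, hV0n.conj_mem v hv ⟨x, hx⟩, rfl⟩
    · rintro ⟨v, hv, hve⟩
      exact ⟨_, hV0n.conj_mem v hv ⟨x⁻¹, inv_mem hx⟩, by
        show x⁻¹ * (v : G) * x⁻¹⁻¹ = y
        rw [show (v : G) = x * y * x⁻¹ from hve]; group⟩
  haveI : Fact (Nat.Prime 2) := ⟨Nat.prime_two⟩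
  obtain ⟨S, hS⟩ := (IsPGroup.of_card (p := 2) (G := ↥V) (n := 2) (by rw [hVc]; norm_num)).exists_le_sylow
  have hS8 : Nat.card ↥(S : Subgroup G) = 8 := by
    simpa using SmallGroups.card_sylow_eq (a := 3) (m := 45) (by omega : Nat.card G = 2 ^ 3 * 45)
      (by norm_num) S
  have hSN : (S : Subgroup G) ≤ Subgroup.normalizer (V : Set G) := by
    refine (Subgroup.normal_subgroupOf_iff_le_normalizer hS).1 (Subgroup.normal_of_index_eq_two ?_)
    have h1 := (V.subgroupOf (S : Subgroup G)).card_mul_index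
    rw [Nat.card_congr (Subgroup.subgroupOfEquivOfLe hS).toEquiv, hVc, hS8] at h1
    omega
  have h72 : 72 ∣ Nat.card ↥(Subgroup.normalizer (V : Set G)) :=
    Nat.Coprime.mul_dvd_of_dvd_of_dvd (m := 8) (n := 9) (by norm_num)
      (hS8 ▸ Subgroup.card_dvd_of_le hSN)
      ((Dvd.intro c hc.symm).trans (Subgroup.card_dvd_of_le hCN))
  have hNtop : Subgroup.normalizer (V : Set G) = ⊤ := by
    by_contra hne'
    have h1 := hidx _ hne'
    have h2 := (Subgroup.normalizer (V : Set G)).card_mul_index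
    have h3 := Nat.le_of_dvd Nat.card_pos h72
    rw [h] at h2
    nlinarith
  have hVn : V.Normal := Subgroup.normalizer_eq_top_iff.1 hNtop
  have hVtop : V ≠ ⊤ := fun e => by rw [e, Subgroup.card_top, h] at hVc; norm_num at hVc
  have := SmallGroups.eq_bot_of_normal_ne_top hVn hVtop
  rw [this, Subgroup.card_bot] at hVc
  norm_num at hVc

set_option maxHeartbeats 1000000 in
/-- Every simple group of order `360` is isomorphic to `K360`. -/
theorem nonempty_iso (h : Nat.card G = 360) : Nonempty (G ≃* ↥K360) := by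
  classical
  haveI : Fact (Nat.Prime 3) := ⟨by norm_num⟩
  obtain ⟨hna, hn, hP9, -⟩ := card_sylow_three h
  obtain ⟨P⟩ : Nonempty (Sylow 3 G) := inferInstance
  set N := Subgroup.normalizer ((P : Subgroup G) : Set G) with hN
  have hPN : (P : Subgroup G) ≤ N := Subgroup.le_normalizer
  have hNc : Nat.card ↥N = 36 := by
    have := SmallGroups.card_sylow_mul_card_normalizer P
    rw [hn, h] at this
    rw [hN]; omega
  have hreg : ∀ p ∈ (P : Subgroup G), ∀ Q : Sylow 3 G, p • Q = Q → Q ≠ P → p = 1 := by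
    intro p hp Q hQ hne
    by_contra hp1
    exact hne (regular_three h P Q hp hp1 hQ)
  have hPc : ∀ x ∈ (P : Subgroup G), ∀ y ∈ (P : Subgroup G), x * y = y * x := fun x hx y hy =>
    congrArg Subtype.val (IsPGroup.commutative_of_card_eq_prime_sq (p := 3)
      (G := ↥(P : Subgroup G)) (by rw [hP9]; norm_num) ⟨x, hx⟩ ⟨y, hy⟩)
  obtain ⟨Q0, hQ0⟩ : ∃ Q : Sylow 3 G, Q ≠ P := by
    haveI : Nontrivial (Sylow 3 G) := Finite.one_lt_card_iff_nontrivial.1 (by rw [hn]; norm_num)
    exact exists_ne P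
  have hPfix : ∀ p ∈ (P : Subgroup G), p • P = P := fun p hp =>
    Sylow.smul_eq_iff_mem_normalizer.2 (hPN hp)
  -- `P` is transitive on the other nine
  have hPtrans : ∀ Q : Sylow 3 G, Q ≠ P → ∃ p ∈ (P : Subgroup G), p • Q0 = Q := by
    intro Q hQ
    haveI := Fintype.ofFinite (Sylow 3 G)
    haveI := Fintype.ofFinite ↥(P : Subgroup G)
    let F : ↥(P : Subgroup G) → {R : Sylow 3 G // R ≠ P} := fun p => ⟨(p : G) • Q0, fun e =>
      hQ0 (by rw [← inv_smul_smul (p : G) Q0, e, hPfix _ (inv_mem p.2)])⟩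
    have hF : Function.Injective F := by
      intro p q hpq
      have e : (p : G) • Q0 = (q : G) • Q0 := congrArg Subtype.val hpq
      have := hreg _ (mul_mem (inv_mem q.2) p.2) Q0 (by rw [mul_smul, e, inv_smul_smul]) hQ0
      exact Subtype.ext (inv_mul_eq_one.1 this).symm
    have hFb : Function.Bijective F := (Fintype.bijective_iff_injective_and_card F).2 ⟨hF, by
      rw [Fintype.card_subtype_compl, Fintype.card_subtype_eq, ← Nat.card_eq_fintype_card,
        ← Nat.card_eq_fintype_card, hn, hP9]⟩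
    obtain ⟨p, hp⟩ := hFb.2 ⟨Q, hQ⟩
    exact ⟨p, p.2, congrArg Subtype.val hp⟩
  -- the two point stabiliser
  set C0 := N ⊓ MulAction.stabilizer G Q0 with hC0
  have hC0Q : ∀ c ∈ C0, c • Q0 = Q0 := fun c hc =>
    MulAction.mem_stabilizer_iff.1 (Subgroup.mem_inf.1 hc).2
  have hC0c : Nat.card ↥C0 = 4 := by
    let F : ↥(P : Subgroup G) × ↥C0 → ↥N := fun x =>
      ⟨(x.1 : G) * (x.2 : G), mul_mem (hPN x.1.2) x.2.2.1⟩
    have hF : Function.Bijective F := by
      constructor
      · rintro ⟨p, c⟩ ⟨p', c'⟩ e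
        have e' : (p : G) * c = p' * c' := congrArg Subtype.val e
        have hp : (p' : G)⁻¹ * (p : G) = (c' : G) * (c : G)⁻¹ := by
          rw [eq_mul_inv_iff_mul_eq, mul_assoc, e', inv_mul_cancel_left]
        have := hreg _ (mul_mem (inv_mem p'.2) p.2) Q0 (by
          rw [hp, mul_smul, hC0Q _ (inv_mem c.2), hC0Q _ c'.2]) hQ0
        have hpp : p = p' := Subtype.ext (inv_mul_eq_one.1 this).symm
        subst hpp
        exact Prod.ext rfl (Subtype.ext (mul_left_cancel e'))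
      · rintro ⟨g, hg⟩
        have hgQ : g • Q0 ≠ P := fun e => hQ0 (by
          rw [← inv_smul_smul g Q0, e, Sylow.smul_eq_iff_mem_normalizer.2 (inv_mem hg)])
        obtain ⟨p, hp, hpQ⟩ := hPtrans _ hgQ
        refine ⟨(⟨p, hp⟩, ⟨p⁻¹ * g, Subgroup.mem_inf.2 ⟨mul_mem (inv_mem (hPN hp)) hg, ?_⟩⟩),
          Subtype.ext ?_⟩
        · rw [MulAction.mem_stabilizer_iff, mul_smul, ← hpQ, inv_smul_smul]
        · show p * (p⁻¹ * g) = g
          group
    have := Nat.card_congr (Equiv.ofBijective F hF)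
    rw [Nat.card_prod, hP9, hNc] at this
    omega
  have hC0N : ∀ c ∈ C0, ∀ p ∈ (P : Subgroup G), c * p * c⁻¹ ∈ (P : Subgroup G) :=
    fun c hc p hp => (Subgroup.mem_normalizer_iff.1 hc.1 p).1 hp
  have hC0move : ∀ c ∈ C0, ∀ p : G, c • (p • Q0) = (c * p * c⁻¹) • Q0 := by
    intro c hc p
    rw [smul_smul, show c * p = c * p * c⁻¹ * c by group, mul_smul, hC0Q c hc]
    simp [mul_assoc]
  have hfaith0 : Function.Injective (MulAction.toPermHom G (Sylow 3 G)) := by
    refine SmallGroups.toPermHom_injective_of_not_trivial ?_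
    obtain ⟨g, hg⟩ := MulAction.exists_smul_eq G P Q0
    exact ⟨g, P, by rw [hg]; exact hQ0⟩
  have hfaith : ∀ c ∈ C0, (∀ p ∈ (P : Subgroup G), c * p * c⁻¹ = p) → c = 1 := by
    intro c hc hcp
    apply hfaith0
    rw [map_one]
    refine Equiv.ext fun Q => ?_
    show c • Q = Q
    by_cases hQ : Q = P
    · rw [hQ]; exact Sylow.smul_eq_iff_mem_normalizer.2 hc.1
    · obtain ⟨p, hp, rfl⟩ := hPtrans Q hQ
      rw [hC0move c hc, hcp p hp]
  have hinvol : ∀ c ∈ C0, c * c = 1 → c ≠ 1 → ∀ p ∈ (P : Subgroup G), c * p * c⁻¹ = p⁻¹ := by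
    intro c hc hcc hc1
    refine CfsgLib.LocalEven.inverts_of_fixedPointFree hcc hc.1 ?_
    intro p0 hp0 hcomm
    by_contra hp01
    -- the fixed points of `c`
    let Cp : Subgroup G := (P : Subgroup G) ⊓ Subgroup.centralizer ({c} : Set G)
    have hCp : Nat.card ↥Cp = 3 := by
      have h1 : Nat.card ↥Cp ∣ 3 ^ 2 := by
        rw [show (3 : ℕ) ^ 2 = 9 from rfl, ← hP9 P]; exact Subgroup.card_dvd_of_le inf_le_left
      obtain ⟨k, hk, hk'⟩ := (Nat.dvd_prime_pow (by norm_num)).1 h1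
      have hk0 : k ≠ 0 := by
        intro h0
        rw [h0, pow_zero, Subgroup.card_eq_one] at hk'
        exact hp01 (Subgroup.mem_bot.1 (hk' ▸ (⟨hp0, Subgroup.mem_centralizer_singleton_iff.2 hcomm.symm⟩ : p0 ∈ Cp)))
      have hk2 : k ≠ 2 := by
        intro h2
        apply hc1
        refine hfaith c hc fun p hp => ?_
        have : Cp = (P : Subgroup G) := Subgroup.eq_of_le_of_card_ge inf_le_left (by
          rw [hk', h2, hP9]; norm_num)
        have h5 := Subgroup.mem_centralizer_singleton_iff.1 (this ▸ hp : p ∈ Cp).2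
        rw [← h5, mul_inv_cancel_right]
      have : k = 1 := by omega
      rw [hk', this, pow_one]
    haveI := Fintype.ofFinite (Sylow 3 G)
    set σ := MulAction.toPermHom G (Sylow 3 G) c with hσ
    have hsign := SmallGroups.sign_eq_one_of_simple hna (MulAction.toPermHom G (Sylow 3 G)) c
    rw [← hσ, Equiv.Perm.sign_of_pow_two_eq_one (by rw [hσ, ← map_pow, sq, hcc, map_one]),
      ← Nat.card_eq_fintype_card, ← Nat.card_eq_fintype_card, hn] at hsign
    have hfix : Nat.card ↥(Function.fixedPoints σ) = 4 := by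
      let F : Option ↥Cp → ↥(Function.fixedPoints σ) := fun o => match o with
        | none => ⟨P, Sylow.smul_eq_iff_mem_normalizer.2 hc.1⟩
        | some q => ⟨(q : G) • Q0, by
            show c • ((q : G) • Q0) = (q : G) • Q0
            rw [hC0move c hc, ← Subgroup.mem_centralizer_singleton_iff.1 q.2.2, mul_inv_cancel_right]⟩
      have hF : Function.Bijective F := by
        constructor
        · rintro (_ | q) (_ | q') e
          · rfl
          · exfalso
            have e' : P = (q' : G) • Q0 := congrArg Subtype.val e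
            exact hQ0 (by rw [← inv_smul_smul (q' : G) Q0, ← e', hPfix _ (inv_mem q'.2.1)])
          · exfalso
            have e' : (q : G) • Q0 = P := congrArg Subtype.val e
            exact hQ0 (by rw [← inv_smul_smul (q : G) Q0, e', hPfix _ (inv_mem q.2.1)])
          · have e' : (q : G) • Q0 = (q' : G) • Q0 := congrArg Subtype.val e
            have := hreg _ (mul_mem (inv_mem q'.2.1) q.2.1) Q0 (by rw [mul_smul, e', inv_smul_smul]) hQ0
            exact congrArg some (Subtype.ext (inv_mul_eq_one.1 this).symm)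
        · rintro ⟨Q, hQ⟩
          by_cases hQP : Q = P
          · exact ⟨none, Subtype.ext hQP.symm⟩
          · obtain ⟨q, hq, rfl⟩ := hPtrans Q hQP
            have h1 : c • (q • Q0) = q • Q0 := hQ
            rw [hC0move c hc] at h1
            have h2 := hreg _ (mul_mem (inv_mem hq) (hC0N c hc q hq)) Q0
              (by rw [mul_smul, h1, inv_smul_smul]) hQ0
            have h3 : c * q * c⁻¹ = q := (inv_mul_eq_one.1 h2).symm
            exact ⟨some ⟨q, hq, Subgroup.mem_centralizer_singleton_iff.2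
              (mul_inv_eq_iff_eq_mul.1 h3).symm⟩, rfl⟩
      rw [← Nat.card_congr (Equiv.ofBijective F hF), Finite.card_option, hCp]
    rw [hfix] at hsign
    exact absurd hsign (by decide)
  -- a generator
  obtain ⟨g, hgC, hg4⟩ : ∃ g ∈ C0, orderOf g = 4 := by
    by_contra hno
    push Not at hno
    have hord : ∀ c ∈ C0, c * c = 1 := by
      intro c hc
      have h1 : orderOf c ∣ 4 := hC0c ▸ Subgroup.orderOf_dvd_natCard C0 hc
      have h2 := hno c hc
      obtain ⟨k, hk, hk'⟩ := (Nat.dvd_prime_pow Nat.prime_two).1 (show orderOf c ∣ 2 ^ 2 from h1)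
      rw [← sq]
      refine orderOf_dvd_iff_pow_eq_one.1 ?_
      rw [hk']
      interval_cases k
      · norm_num
      · norm_num
      · exact absurd (hk'.trans (by norm_num)) h2
    have hle : Nat.card ↥C0 ≤ 2 := by
      have huniq : ∀ c ∈ C0, ∀ d ∈ C0, c ≠ 1 → d ≠ 1 → c = d := by
        intro c hc d hd hc1 hd1
        have hcd : c⁻¹ * d = 1 := by
          refine hfaith _ (mul_mem (inv_mem hc) hd) fun p hp => ?_
          have hci : c⁻¹ = c := inv_eq_of_mul_eq_one_right (hord c hc)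
          calc c⁻¹ * d * p * (c⁻¹ * d)⁻¹ = c⁻¹ * (d * p * d⁻¹) * c⁻¹⁻¹ := by group
            _ = c * p⁻¹ * c⁻¹ := by rw [hinvol d hd (hord d hd) hd1 p hp]; simp only [hci, inv_inv]
            _ = p := by rw [hinvol c hc (hord c hc) hc1 _ (inv_mem hp), inv_inv]
        exact inv_mul_eq_one.1 hcd
      by_contra hgt
      haveI : Nontrivial ↥C0 := Finite.one_lt_card_iff_nontrivial.1 (by omega)
      obtain ⟨c, hc⟩ := exists_ne (1 : ↥C0)
      have hall : ∀ d : ↥C0, d = 1 ∨ d = c := fun d => by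
        by_cases hd : d = 1
        · exact Or.inl hd
        · exact Or.inr (Subtype.ext (huniq d d.2 c c.2 (fun e => hd (Subtype.ext e))
            (fun e => hc (Subtype.ext e))))
      haveI := Fintype.ofFinite ↥C0
      rw [Nat.card_eq_fintype_card] at hgt
      have := Finset.card_le_card (show (Finset.univ : Finset ↥C0) ⊆ {1, c} from fun d _ => by
        rcases hall d with h | h <;> simp [h])
      rw [Finset.card_univ] at this
      have h2 : ({1, c} : Finset ↥C0).card ≤ 2 := Finset.card_le_two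
      omega
    omega
  have hg2inv : ∀ p ∈ (P : Subgroup G), g ^ 2 * p * (g ^ 2)⁻¹ = p⁻¹ := by
    refine hinvol _ (pow_mem hgC 2) ?_ ?_
    · rw [← pow_add, show 2 + 2 = 4 from rfl, ← hg4, pow_orderOf_eq_one]
    · intro e
      have := orderOf_dvd_of_pow_eq_one e
      rw [hg4] at this; norm_num at this
  have hgN : g ∈ N := hgC.1
  have hgQ : g • Q0 = Q0 := hC0Q g hgC
  have hgP : g • P = P := Sylow.smul_eq_iff_mem_normalizer.2 hgN
  have hindep : ∀ v ∈ (P : Subgroup G), v ≠ 1 → g * v * g⁻¹ ∉ Subgroup.zpowers v := by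
    intro v hv hv1 hmem
    obtain ⟨k, hk⟩ := Subgroup.mem_zpowers_iff.1 hmem
    have h2 : g ^ 2 * v * (g ^ 2)⁻¹ = v ^ (k * k) := by
      rw [pow_two, show g * g * v * (g * g)⁻¹ = g * (g * v * g⁻¹) * g⁻¹ by group, ← hk, ← conj_zpow, ← hk,
        ← zpow_mul]
    rw [hg2inv v hv, ← zpow_neg_one] at h2
    have h3 : v ^ (k * k + 1) = 1 := by rw [zpow_add, ← h2]; group
    rw [← orderOf_dvd_iff_zpow_eq_one] at h3
    have h3dvd : (3 : ℤ) ∣ (orderOf v : ℤ) := by
      have h1 : orderOf v ∣ 3 ^ 2 := by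
        rw [show (3 : ℕ) ^ 2 = 9 from rfl, ← hP9 P]; exact Subgroup.orderOf_dvd_natCard _ hv
      obtain ⟨i, -, hi⟩ := (Nat.dvd_prime_pow (by norm_num)).1 h1
      have hi0 : i ≠ 0 := fun e => hv1 (orderOf_eq_one_iff.1 (by rw [hi, e, pow_zero]))
      rw [hi]
      exact_mod_cast dvd_pow_self 3 hi0
    have h4 := h3dvd.trans h3
    apply sq_add_one_ne (k : ZMod 3)
    have h5 := (ZMod.intCast_zmod_eq_zero_iff_dvd _ 3).2 h4
    push_cast at h5
    exact h5
  obtain ⟨⟨v, hvP⟩, hv⟩ := exists_prime_orderOf_dvd_card' (G := ↥(P : Subgroup G)) 3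
    (by rw [hP9]; norm_num)
  rw [Subgroup.orderOf_mk] at hv
  have hv1 : v ≠ 1 := by rintro rfl; rw [orderOf_one] at hv; norm_num at hv
  set u := g * v * g⁻¹ with hu
  have huP : u ∈ (P : Subgroup G) := hC0N g hgC v hvP
  have huo : orderOf u = 3 := by rw [hu, show g * v * g⁻¹ = MulAut.conj g v from rfl, MulEquiv.orderOf_eq, hv]
  have huv := hindep v hvP hv1
  have hgu : g * u * g⁻¹ = v⁻¹ := by
    rw [← hg2inv v hvP, hu, pow_two]; group
  have hv3 : v ^ 3 = 1 := hv ▸ pow_orderOf_eq_one v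
  have hu3 : u ^ 3 = 1 := huo ▸ pow_orderOf_eq_one u
  have hvu : Commute v u := hPc v hvP u huP
  let pt : Fin 3 → Fin 3 → G := fun a b => v ^ (a : ℕ) * u ^ (b : ℕ)
  have hptP : ∀ a b, pt a b ∈ (P : Subgroup G) := fun a b => mul_mem (pow_mem hvP _) (pow_mem huP _)
  have hptinj : ∀ a b a' b', pt a b = pt a' b' → a = a' ∧ b = b' := by
    intro a b a' b' e
    have e1 : u ^ ((b : ℤ) - (b' : ℤ)) = v ^ ((a' : ℤ) - (a : ℤ)) := by
      have e0 : v ^ (a : ℕ) * u ^ (b : ℕ) = v ^ (a' : ℕ) * u ^ (b' : ℕ) := e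
      have hc : Commute (v ^ ((a' : ℕ) : ℤ)) (v ^ ((a : ℕ) : ℤ))⁻¹ :=
        ((Commute.refl v).zpow_zpow _ _).inv_right
      rw [zpow_sub, zpow_sub]
      calc u ^ ((b : ℕ) : ℤ) * (u ^ ((b' : ℕ) : ℤ))⁻¹
          = (v ^ (a : ℕ))⁻¹ * (v ^ (a : ℕ) * u ^ (b : ℕ)) * (u ^ (b' : ℕ))⁻¹ := by group
        _ = (v ^ ((a : ℕ) : ℤ))⁻¹ * v ^ ((a' : ℕ) : ℤ) := by rw [e0]; group
        _ = v ^ ((a' : ℕ) : ℤ) * (v ^ ((a : ℕ) : ℤ))⁻¹ := hc.eq.symm
    have hb : b = b' := by
      by_contra hne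
      apply huv
      have hne' : (b : ℕ) ≠ (b' : ℕ) := fun e => hne (Fin.ext e)
      have hb1 := b.isLt
      have hb2 := b'.isLt
      obtain ⟨x, y, hxy⟩ : ∃ x y : ℤ, ((b : ℤ) - (b' : ℤ)) * x + 3 * y = 1 := by
        rcases (show ((b : ℤ) - b' = 1 ∨ (b : ℤ) - b' = 2 ∨ (b : ℤ) - b' = -1 ∨ (b : ℤ) - b' = -2) by omega)
          with e | e | e | e <;> rw [e]
        · exact ⟨1, 0, by norm_num⟩
        · exact ⟨-1, 1, by norm_num⟩
        · exact ⟨-1, 0, by norm_num⟩
        · exact ⟨1, 1, by norm_num⟩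
      have h1 : u = v ^ (((a' : ℤ) - (a : ℤ)) * x) := by
        calc u = u ^ (((b : ℤ) - (b' : ℤ)) * x + 3 * y) := by rw [hxy, zpow_one]
          _ = (u ^ ((b : ℤ) - (b' : ℤ))) ^ x * (u ^ (3 : ℕ)) ^ y := by
              rw [zpow_add, zpow_mul, zpow_mul]; norm_cast
          _ = v ^ (((a' : ℤ) - (a : ℤ)) * x) := by rw [e1, hu3, one_zpow, mul_one, zpow_mul]
      rw [← hu, h1]
      exact Subgroup.zpow_mem _ (Subgroup.mem_zpowers v) _
    subst hb
    have e2 : v ^ (a : ℕ) = v ^ (a' : ℕ) := mul_right_cancel (show pt a b = pt a' b from e)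
    exact ⟨Fin.ext (pow_injOn_Iio_orderOf (by simp [hv, a.isLt]) (by simp [hv, a'.isLt]) e2), rfl⟩
  have hdig : ∀ x : Fin 10, (x : ℕ) % 3 < 3 ∧ (x : ℕ) / 3 % 3 < 3 :=
    fun x => ⟨Nat.mod_lt _ (by norm_num), Nat.mod_lt _ (by norm_num)⟩
  let lab : Fin 10 → Sylow 3 G := fun x =>
    if x = 9 then P else pt ⟨_, (hdig x).1⟩ ⟨_, (hdig x).2⟩ • Q0
  have hneP : ∀ a b, pt a b • Q0 ≠ P := fun a b e =>
    hQ0 (by rw [← inv_smul_smul (pt a b) Q0, e, hPfix _ (inv_mem (hptP a b))])
  have hlabinj : Function.Injective lab := by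
    intro x y hxy
    simp only [lab] at hxy
    split_ifs at hxy with hx hy hy
    · rw [hx, hy]
    · exact absurd hxy.symm (hneP _ _)
    · exact absurd hxy (hneP _ _)
    · have := hreg _ (mul_mem (inv_mem (hptP _ _)) (hptP _ _)) Q0
        (by rw [mul_smul, hxy, inv_smul_smul]) hQ0
      obtain ⟨h1, h2⟩ := hptinj _ _ _ _ (inv_mul_eq_one.1 this).symm
      have h1' := congrArg Fin.val h1
      have h2' := congrArg Fin.val h2
      simp only at h1' h2'
      have := Fin.val_ne_iff.2 hx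
      have := Fin.val_ne_iff.2 hy
      have := x.isLt
      have := y.isLt
      apply Fin.ext
      omega
  haveI := Fintype.ofFinite (Sylow 3 G)
  let e : Fin 10 ≃ Sylow 3 G := Equiv.ofBijective lab
    ((Fintype.bijective_iff_injective_and_card lab).2
      ⟨hlabinj, by rw [Fintype.card_fin, ← Nat.card_eq_fintype_card, hn]⟩)
  have e9 : e 9 = P := by simp [e, lab]
  have e0 : e 0 = Q0 := by simp [e, lab, pt]
  let f : G →* Perm (Fin 10) := e.symm.permCongrHom.toMonoidHom.comp (MulAction.toPermHom G (Sylow 3 G))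
  have hf : ∀ c x, e (f c x) = c • e x := by intro c x; simp [f]
  have hfinj : Function.Injective f := e.symm.permCongrHom.injective.comp hfaith0
  have hQfix : ∀ n : ℕ, n % 3 = 0 → v ^ n = 1 ∧ u ^ n = 1 := by
    intro n hn0
    obtain ⟨k, rfl⟩ := Nat.dvd_of_mod_eq_zero hn0
    rw [pow_mul, pow_mul, hv3, hu3, one_pow]; exact ⟨rfl, rfl⟩
  have hvmove : ∀ a b : ℕ, v • ((v ^ a * u ^ b) • Q0) = (v ^ ((a + 1) % 3) * u ^ b) • Q0 := by
    intro a b
    have hmod : v ^ ((a + 1) % 3) = v ^ (a + 1) := by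
      conv_rhs => rw [← pow_mod_orderOf, hv]
    rw [smul_smul, hmod, pow_succ' v, mul_assoc]
  have humove : ∀ a b : ℕ, u • ((v ^ a * u ^ b) • Q0) = (v ^ a * u ^ ((b + 1) % 3)) • Q0 := by
    intro a b
    have hmod : u ^ ((b + 1) % 3) = u ^ (b + 1) := by
      conv_rhs => rw [← pow_mod_orderOf, huo]
    rw [smul_smul, hmod, pow_succ' u, ← mul_assoc, (hvu.symm.pow_right a).eq, mul_assoc]
  have hgmove : ∀ a b : ℕ, g • ((v ^ a * u ^ b) • Q0) = (v ^ ((2 * b) % 3) * u ^ a) • Q0 := by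
    intro a b
    have h1 : g * (v ^ a * u ^ b) * g⁻¹ = v ^ ((2 * b) % 3) * u ^ a := by
      have hmod : v ^ ((2 * b) % 3) = v ^ (2 * b) := by
        conv_rhs => rw [← pow_mod_orderOf, hv]
      have hvi : v⁻¹ = v ^ 2 := inv_eq_of_mul_eq_one_right (by rw [← pow_succ', hv3])
      rw [show g * (v ^ a * u ^ b) * g⁻¹ = (g * v ^ a * g⁻¹) * (g * u ^ b * g⁻¹) by group, ← conj_pow,
        ← conj_pow, ← hu, hgu, hmod, hvi, ← pow_mul]
      exact ((hvu.pow_left _).pow_right _).eq.symm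
    rw [hC0move g hgC, h1]
  have hlab : ∀ x : Fin 10, x ≠ 9 → e x = (v ^ ((x : ℕ) % 3) * u ^ ((x : ℕ) / 3 % 3)) • Q0 := by
    intro x hx
    simp [e, lab, pt, hx]
  have hfv : f v = sv := by
    refine Equiv.ext fun x => e.injective ?_
    rw [hf]
    by_cases hx : x = 9
    · subst hx; rw [show sv 9 = 9 from rfl, e9]; exact hPfix v hvP
    · rw [hlab x hx, hvmove, hlab (sv x) (fun e' => hx (sv.injective (e'.trans rfl)))]
      congr 3
      all_goals (revert hx; revert x; decide)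
  have hfu : f u = su := by
    refine Equiv.ext fun x => e.injective ?_
    rw [hf]
    by_cases hx : x = 9
    · subst hx; rw [show su 9 = 9 from rfl, e9]; exact hPfix u huP
    · rw [hlab x hx, humove, hlab (su x) (fun e' => hx (su.injective (e'.trans rfl)))]
      congr 3
      all_goals (revert hx; revert x; decide)
  have hfg : f g = rot := by
    refine Equiv.ext fun x => e.injective ?_
    rw [hf]
    by_cases hx : x = 9
    · subst hx; rw [show rot 9 = 9 from rfl, e9]; exact hgP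
    · rw [hlab x hx, hgmove, hlab (rot x) (fun e' => hx (rot.injective (e'.trans rfl)))]
      congr 3
      all_goals (revert hx; revert x; decide)
  -- the stabiliser of `∞`
  have hstab : ∀ c, f c 9 = 9 → ∃ a b : Fin 3, ∃ k : Fin 4, f c = aff a b k := by
    intro c hc
    have hcN : c ∈ N := by
      rw [hN]
      refine Sylow.smul_eq_iff_mem_normalizer.1 ?_
      have := hf c 9
      rw [hc, e9] at this
      exact this.symm
    let F : Fin 3 × Fin 3 × Fin 4 → ↥N := fun p =>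
      ⟨v ^ (p.1 : ℕ) * u ^ (p.2.1 : ℕ) * g ^ (p.2.2 : ℕ),
        mul_mem (mul_mem (pow_mem (hPN hvP) _) (pow_mem (hPN huP) _)) (pow_mem hgN _)⟩
    have hFf : ∀ p, f (F p : G) = aff p.1 p.2.1 p.2.2 := by
      intro p
      simp only [F, map_mul, map_pow, hfv, hfu, hfg, aff]
    have hF : Function.Injective F := by
      intro p q hpq
      have h1 : aff p.1 p.2.1 p.2.2 = aff q.1 q.2.1 q.2.2 := by rw [← hFf, ← hFf, hpq]
      obtain ⟨ea, eb, ek⟩ := aff_inj p.1 p.2.1 q.1 q.2.1 p.2.2 q.2.2 (by rw [h1]) (by rw [h1])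
      exact Prod.ext ea (Prod.ext eb ek)
    haveI := Fintype.ofFinite ↥N
    have hFb : Function.Bijective F := (Fintype.bijective_iff_injective_and_card F).2 ⟨hF, by
      rw [Fintype.card_prod, Fintype.card_prod, Fintype.card_fin, Fintype.card_fin, ← Nat.card_eq_fintype_card, hNc]⟩
    obtain ⟨p, hp⟩ := hFb.2 ⟨c, hcN⟩
    exact ⟨p.1, p.2.1, p.2.2, by rw [← hFf p, hp]⟩
  -- an element interchanging `0` and `∞`
  obtain ⟨g0, hg9, hg0⟩ : ∃ g0, f g0 9 = 0 ∧ f g0 0 = 9 := by
    obtain ⟨a, ha⟩ := MulAction.exists_smul_eq G P Q0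
    have ha9 : f a 9 = 0 := e.injective (by rw [hf, e9, e0, ha])
    set q := (f a).symm 9 with hq
    have hq9 : q ≠ 9 := by
      intro h9
      have : f a q = 9 := by rw [hq, Equiv.apply_symm_apply]
      rw [h9, ha9] at this
      exact absurd this (by decide)
    obtain ⟨i, j, hij⟩ := translate_orbit q hq9
    refine ⟨a * (v ^ (i : ℕ) * u ^ (j : ℕ)), ?_, ?_⟩
    · rw [map_mul, map_mul, map_pow, map_pow, hfv, hfu, Perm.mul_apply, translate_top, ha9]
    · rw [map_mul, map_mul, map_pow, map_pow, hfv, hfu, Perm.mul_apply, hij, hq, Equiv.apply_symm_apply]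
  set w := f g0 with hw
  have hwi9 : w⁻¹ 9 = 0 := by rw [← hg0]; exact w.symm_apply_apply 0
  have hwi0 : w⁻¹ 0 = 9 := by rw [← hg9]; exact w.symm_apply_apply 9
  obtain ⟨k, hk⟩ : ∃ k : Fin 4, g0 * g * g0⁻¹ = g ^ (k : ℕ) := by
    set c := g0 * g * g0⁻¹ with hc
    have h9 : f c 9 = 9 := by
      rw [hc, map_mul, map_mul, map_inv, ← hw, hfg, Perm.mul_apply, Perm.mul_apply, hwi9,
        show rot 0 = 0 from rfl, hg0]
    have h0 : f c 0 = 0 := by
      rw [hc, map_mul, map_mul, map_inv, ← hw, hfg, Perm.mul_apply, Perm.mul_apply, hwi0,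
        show rot 9 = 9 from rfl, hg9]
    obtain ⟨a, b, k, hak⟩ := hstab c h9
    rw [hak] at h0
    obtain ⟨rfl, rfl⟩ := aff_zero a b k h0
    refine ⟨k, hfinj ?_⟩
    rw [hak, map_pow, hfg]
    simp [aff]
  have hk4 : orderOf (g ^ (k : ℕ)) = 4 := by
    rw [← hk, show g0 * g * g0⁻¹ = MulAut.conj g0 g from rfl, MulEquiv.orderOf_eq, hg4]
  have hcand : ∀ h' : G, g0 * g * g0⁻¹ = h' → ∀ x, w x = candH (f h') (w 1) (w 4) x := by
    intro h' hh'
    refine cand_ext (f h') w hg9 hg0 fun x => ?_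
    rw [← hh', map_mul, map_mul, map_inv, hfg, ← hw]
    simp [Perm.mul_apply]
  have hgood : Good w := by
    intro i j m n him
    have h9 : f (g0 * (v ^ (m : ℕ) * u ^ (n : ℕ)) * g0 * (v ^ (i : ℕ) * u ^ (j : ℕ)) * g0) 9 = 9 := by
      simp only [map_mul, map_pow, hfv, hfu, Perm.mul_apply, ← hw] at him ⊢
      rw [hg9, him, hg0]
    obtain ⟨a, b, k', hak⟩ := hstab _ h9
    refine ⟨a, b, k', fun x => ?_⟩
    rw [← hak]
    simp only [map_mul, map_pow, hfv, hfu, Perm.mul_apply, ← hw]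
  have hw1 : w 1 ≠ 0 ∧ w 1 ≠ 9 ∧ w 4 ≠ 0 ∧ w 4 ≠ 9 :=
    ⟨fun h => absurd (w.injective (h.trans hg9.symm)) (by decide),
     fun h => absurd (w.injective (h.trans hg0.symm)) (by decide),
     fun h => absurd (w.injective (h.trans hg9.symm)) (by decide),
     fun h => absurd (w.injective (h.trans hg0.symm)) (by decide)⟩
  obtain ⟨j, hj⟩ : ∃ j : Fin 4, ∀ x : Fin 10, w x = wz ((rot ^ (j : ℕ)) x) := by
    fin_cases k
    · exfalso; simp only [pow_zero, orderOf_one] at hk4; norm_num at hk4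
    · exfalso
      simp only [pow_one] at hk
      have e' := funext (hcand g hk)
      rw [hfg] at e'
      exact cand_one _ _ hw1.1 hw1.2.1 hw1.2.2.1 hw1.2.2.2 (e' ▸ hgood)
    · exfalso
      simp only [orderOf_pow, hg4] at hk4
      norm_num at hk4
    · have hgi : g0 * g * g0⁻¹ = g⁻¹ := by
        rw [hk, inv_eq_of_mul_eq_one_right (b := g ^ 3)
          (by rw [← pow_succ', show 3 + 1 = 4 from rfl, ← hg4, pow_orderOf_eq_one])]
      have e' := funext (hcand g⁻¹ hgi)
      rw [map_inv, hfg] at e'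
      obtain ⟨j, hj⟩ := cand_inv _ _ hw1.1 hw1.2.1 hw1.2.2.1 hw1.2.2.2 (e' ▸ hgood)
      exact ⟨j, fun x => (congrFun e' x).trans (hj x)⟩
  have hweq : w = wz * rot ^ (j : ℕ) := Equiv.ext fun x => hj x
  have hsvK : sv ∈ K360 := Subgroup.subset_closure (by simp)
  have hsuK : su ∈ K360 := Subgroup.subset_closure (by simp)
  have hrotK : rot ∈ K360 := Subgroup.subset_closure (by simp)
  have hwzK : wz ∈ K360 := Subgroup.subset_closure (by simp)
  have hKle : K360 ≤ f.range := by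
    rw [K360, Subgroup.closure_le]
    rintro p (rfl | rfl | rfl | rfl)
    · exact ⟨v, hfv⟩
    · exact ⟨u, hfu⟩
    · exact ⟨g, hfg⟩
    · refine ⟨g0 * (g ^ (j : ℕ))⁻¹, ?_⟩
      rw [map_mul, map_inv, map_pow, hfg, ← hw, hweq, mul_inv_cancel_right]
  have hrange : f.range = K360 := by
    refine range_eq_of_transitive f K360 hKle 9 (fun x => ?_) (fun c hc => ?_)
    · by_cases hx : x = 9
      · exact ⟨1, one_mem _, hx.symm⟩
      · obtain ⟨a, b, hab⟩ := translate_orbit x hx
        refine ⟨sv ^ (a : ℕ) * su ^ (b : ℕ) * wz,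
          mul_mem (mul_mem (pow_mem hsvK _) (pow_mem hsuK _)) hwzK, ?_⟩
        rw [Perm.mul_apply]
        exact hab
    · obtain ⟨a, b, k', hak⟩ := hstab c hc
      rw [hak, aff]
      exact mul_mem (mul_mem (pow_mem hsvK _) (pow_mem hsuK _)) (pow_mem hrotK _)
  exact ⟨(MonoidHom.ofInjective hfinj).trans (MulEquiv.subgroupCongr hrange)⟩

end O360

end CfsgLib.SmallSimple
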